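import Mathlib.AlgebraicGeometry.Morphisms.FlatMono
import Mathlib.AlgebraicGeometry.Properties
import Mathlib.AlgebraicGeometry.Limits
import Mathlib.RingTheory.Artinian.Ring
import Mathlib.RingTheory.Spectrum.Prime.Topology

/-!
# Monomorphisms into reduced discrete schemes
-/

set_option autoImplicit false
set_option backward.isDefEq.respectTransparency false

universe u

open CategoryTheory CategoryTheory.Limits AlgebraicGeometry TopologicalSpace

namespace Groth.Agent.SchMor12

theorem isField_stalk_of_discrete (Y : Scheme.{u}) [IsReduced Y] [DiscreteTopology Y] (y : Y) :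
    IsField (Y.presheaf.stalk y) := by
  have h : Subsingleton (Spec (Y.presheaf.stalk y)) := by
    refine ⟨fun p q => (Y.fromSpecStalk y).isEmbedding.injective ?_⟩
    have : ∀ p, Y.fromSpecStalk y p = y := fun p => by
      have : Y.fromSpecStalk y p ⤳ y := by
        have := Y.range_fromSpecStalk.le (Set.mem_range_self p)
        exact this
      exact this.eq
    rw [this, this]
  exact PrimeSpectrum.subsingleton_iff_isField_of_isReduced.1 h

/-- A monomorphism into a reduced discrete scheme is an open immersion. -/
theorem isOpenImmersion_of_mono_of_discrete {X Y : Scheme.{u}} (f : X ⟶ Y) [Mono f]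
    [IsReduced Y] [DiscreteTopology Y] : IsOpenImmersion f := by
  let U : Y.Opens := ⟨Set.range f, isOpen_discrete _⟩
  let f' : X ⟶ U.toScheme := IsOpenImmersion.lift U.ι f (by simp [U])
  have heq : f' ≫ U.ι = f := IsOpenImmersion.lift_fac _ _ _
  have : Mono f' := mono_of_mono_fac heq
  have : DiscreteTopology U.toScheme := U.ι.isEmbedding.discreteTopology
  have hs : Surjective f' := ⟨fun ⟨y, x, hx⟩ => ⟨x, U.ι.isEmbedding.injective (by
    rw [← Scheme.Hom.comp_apply, heq]; exact hx)⟩⟩
  have : IsReduced U.toScheme := isReduced_of_isOpenImmersion U.ι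
  have : Flat f' := by
    refine Flat.iff_flat_stalkMap f' |>.2 fun x => ?_
    let _ := (isField_stalk_of_discrete U.toScheme (f' x)).toField
    let _ := (f'.stalkMap x).hom.toAlgebra
    exact (inferInstance : Module.Flat (U.toScheme.presheaf.stalk (f' x)) (X.presheaf.stalk x))
  have : QuasiCompact f' := ⟨fun V _ hV =>
    ((hV.finite_of_discrete).preimage f'.injective.injOn).isCompact⟩
  have := Flat.isIso_of_surjective_of_mono f'
  rw [← heq]
  infer_instance

theorem discreteTopology_spec_pi {ι : Type u} [Finite ι] (k : ι → Type u) [∀ i, Field (k i)] :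
    DiscreteTopology (Spec (CommRingCat.of (Π i, k i))) :=
  inferInstanceAs (DiscreteTopology (PrimeSpectrum (Π i, k i)))

theorem discreteTopology_sigma_spec {ι : Type u} (k : ι → Type u) [∀ i, Field (k i)] :
    DiscreteTopology ↥(∐ fun i => Spec (CommRingCat.of (k i))) :=
  haveI : ∀ i, DiscreteTopology ↥(Spec (CommRingCat.of (k i))) := fun i =>
    inferInstanceAs (DiscreteTopology (PrimeSpectrum (k i)))
  (sigmaMk (fun i => Spec (CommRingCat.of (k i)))).symm.isEmbedding.discreteTopology

theorem isReduced_sigma_spec {ι : Type u} (k : ι → Type u) [∀ i, Field (k i)] :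
    IsReduced (∐ fun i => Spec (CommRingCat.of (k i))) :=
  haveI : ∀ i, IsReduced ((sigmaOpenCover fun i => Spec (CommRingCat.of (k i))).X i) :=
    fun i => inferInstanceAs (IsReduced (Spec (CommRingCat.of (k i))))
  AlgebraicGeometry.IsReduced.of_openCover (𝒰 := sigmaOpenCover fun i => Spec (CommRingCat.of (k i)))

end Groth.Agent.SchMor12
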