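import Mathlib.AlgebraicGeometry.Morphisms.WeaklyEtale
import Mathlib.RingTheory.Etale.Weakly

/-! Weakly étale morphisms on affine pieces. -/

universe u

set_option autoImplicit false
set_option backward.isDefEq.respectTransparency false

open CategoryTheory AlgebraicGeometry Limits TensorProduct

namespace Groth.Agent.SchMor12

theorem weaklyEtale_SpecMap_iff (R S : Type u) [CommRing R] [CommRing S] [Algebra R S] :
    WeaklyEtale (Spec.map (CommRingCat.ofHom (algebraMap R S))) ↔ Algebra.WeaklyEtale R S := by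
  rw [AlgebraicGeometry.weaklyEtale_iff, Algebra.weaklyEtale_iff,
    HasRingHomProperty.Spec_iff (P := @Flat), diagonal_SpecMap,
    MorphismProperty.cancel_right_of_respectsIso @Flat, HasRingHomProperty.Spec_iff (P := @Flat)]
  exact and_congr RingHom.flat_algebraMap_iff Iff.rfl

theorem resLE_eq {X S : Scheme.{u}} (f : X ⟶ S) {U : X.Opens} {V : S.Opens} (hU : IsAffineOpen U)
    (hV : IsAffineOpen V) (h : U ≤ f ⁻¹ᵁ V) :
    f.resLE V U h = hU.isoSpec.hom ≫ Spec.map (f.appLE V U h) ≫ hV.isoSpec.inv := by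
  rw [← cancel_mono V.ι, Scheme.Hom.resLE_comp_ι, Category.assoc, Category.assoc,
    hV.isoSpec_inv_ι, hV.SpecMap_appLE_fromSpec f hU h, ← hU.isoSpec_inv_ι, Category.assoc,
    Iso.hom_inv_id_assoc]

theorem weaklyEtale_resLE_iff {X S : Scheme.{u}} (f : X ⟶ S) {U : X.Opens} {V : S.Opens}
    (hU : IsAffineOpen U) (hV : IsAffineOpen V) (h : U ≤ f ⁻¹ᵁ V) :
    WeaklyEtale (f.resLE V U h) ↔
      (letI := (f.appLE V U h).hom.toAlgebra; Algebra.WeaklyEtale Γ(S, V) Γ(X, U)) := by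
  let _ := (f.appLE V U h).hom.toAlgebra
  rw [← weaklyEtale_SpecMap_iff, resLE_eq f hU hV h,
    MorphismProperty.cancel_left_of_respectsIso @WeaklyEtale,
    MorphismProperty.cancel_right_of_respectsIso @WeaklyEtale]
  rfl

theorem weaklyEtale_iff_affineOpens {X S : Scheme.{u}} (f : X ⟶ S) :
    WeaklyEtale f ↔ ∀ (U : X.Opens) (V : S.Opens) (_ : IsAffineOpen U) (_ : IsAffineOpen V)
      (hUV : U ≤ f ⁻¹ᵁ V),
      (letI := (f.appLE V U hUV).hom.toAlgebra
       Algebra.WeaklyEtale Γ(S, V) Γ(X, U)) := by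
  have : MorphismProperty.RespectsRight @WeaklyEtale.{u} @IsOpenImmersion :=
    ⟨fun i (_ : IsOpenImmersion i) g (_ : WeaklyEtale g) => inferInstance⟩
  refine ⟨fun hf U V hU hV h => (weaklyEtale_resLE_iff f hU hV h).1 inferInstance, fun H => ?_⟩
  refine (IsZariskiLocalAtSource.iff_exists_resLE (P := @WeaklyEtale)).2 fun x => ?_
  obtain ⟨V, hV, hxV, -⟩ := TopologicalSpace.Opens.isBasis_iff_nbhd.mp S.isBasis_affineOpens
    (TopologicalSpace.Opens.mem_top (f x))
  obtain ⟨U, hU, hxU, h⟩ := TopologicalSpace.Opens.isBasis_iff_nbhd.mp X.isBasis_affineOpens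
    (show x ∈ f ⁻¹ᵁ V from hxV)
  exact ⟨V, U, hxU, h, (weaklyEtale_resLE_iff f hU hV h).2 (H U V hU hV h)⟩

end Groth.Agent.SchMor12
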