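import Mathlib.AlgebraicGeometry.Morphisms.Finite
import Mathlib.AlgebraicGeometry.Morphisms.ClosedImmersion
import Mathlib.AlgebraicGeometry.Fiber
import Mathlib.RingTheory.LocalRing.Module
import Groth.Agent.AssSch12.PullbackPoint

/-!
# Closed immersion near a point of the target, read off on the fibre
-/

universe u

set_option autoImplicit false
set_option backward.isDefEq.respectTransparency false

open CategoryTheory CategoryTheory.Limits AlgebraicGeometry TopologicalSpace TensorProduct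

namespace Groth.Agent.SchMor12

variable {X Y : Scheme.{u}}

theorem fiber_of_isClosedImmersion (f : X ⟶ Y) (y : Y) {U : Y.Opens} (hyU : y ∈ U)
    [IsClosedImmersion (f ∣_ U)] :
    IsEmpty ↥(f.fiber y) ∨ IsIso (f.fiberToSpecResidueField y) := by
  have hc : IsClosedImmersion (f.fiberToSpecResidueField y) := by
    have hsub : Set.range (Y.fromSpecResidueField y) ⊆ Set.range U.ι := by
      rw [Scheme.range_fromSpecResidueField, Scheme.Opens.range_ι]
      exact Set.singleton_subset_iff.2 hyU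
    let l := IsOpenImmersion.lift U.ι (Y.fromSpecResidueField y) hsub
    have hl : l ≫ U.ι = Y.fromSpecResidueField y := IsOpenImmersion.lift_fac _ _ _
    have big : IsPullback (f.fiberι y) (f.fiberToSpecResidueField y) f (l ≫ U.ι) := by
      rw [hl]; exact IsPullback.of_hasPullback _ _
    have sq := (isPullback_morphismRestrict f U).flip
    let m := sq.lift (f.fiberι y) (f.fiberToSpecResidueField y ≫ l)
      (big.w.trans (Category.assoc _ _ _).symm)
    have : IsPullback m (f.fiberToSpecResidueField y) (f ∣_ U) l := by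
      refine IsPullback.of_right ?_ (sq.lift_snd _ _ _) sq
      rw [sq.lift_fst]; exact big
    exact MorphismProperty.of_isPullback (P := @IsClosedImmersion) this inferInstance
  rcases isEmpty_or_nonempty ↥(f.fiber y) with h | h
  · exact Or.inl h
  have : Surjective (f.fiberToSpecResidueField y) := ⟨fun p => by
    obtain ⟨x⟩ := h
    exact ⟨x, Subsingleton.elim (α := PrimeSpectrum (Y.residueField y)) _ _⟩⟩
  have : Nonempty (⊤ : (f.fiber y).Opens) := ⟨⟨Classical.arbitrary _, trivial⟩⟩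
  have : Nontrivial Γ(f.fiber y, ⊤) := (f.fiber y).component_nontrivial ⊤
  exact Or.inr (IsClosedImmersion.isIso_of_injective_of_isAffine
    ((show Function.Injective ((f.fiberToSpecResidueField y).appTop.hom ∘
        (Scheme.ΓSpecIso (Y.residueField y)).inv.hom) from
      RingHom.injective ((f.fiberToSpecResidueField y).appTop.hom.comp
        (Scheme.ΓSpecIso (Y.residueField y)).inv.hom)).of_comp_right
      (ConcreteCategory.bijective_of_isIso (Scheme.ΓSpecIso (Y.residueField y)).inv).2))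

theorem exists_isClosedImmersion_nhd (f : X ⟶ Y) [LocallyOfFiniteType f] (y : Y)
    (h : IsEmpty ↥(f.fiber y) ∨ IsIso (f.fiberToSpecResidueField y)) {V : Y.Opens} (hyV : y ∈ V)
    (hV : UniversallyClosed (f ∣_ V)) :
    ∃ U : Y.Opens, y ∈ U ∧ IsClosedImmersion (f ∣_ U) := by
  classical
  have hfibre : (f ⁻¹' {y}).Subsingleton ∧ (IsEmpty ↥(f.fiber y) → f ⁻¹' {y} = ∅) := by
    rw [← f.range_fiberι y]
    refine ⟨?_, fun _ => Set.range_eq_empty _⟩
    rcases h with h | h
    · simp [Set.range_eq_empty]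
    · intro a ⟨p, hp⟩ b ⟨q, hq⟩
      rw [← hp, ← hq]
      congr 1
      exact (f.fiberToSpecResidueField y).homeomorph.injective
        (Subsingleton.elim (α := PrimeSpectrum (Y.residueField y)) _ _)
  -- a neighbourhood over which `f` is closed, affine and of the form `Spec B ⟶ Spec A`
  obtain ⟨V₀, hV₀, hyV₀, hV₀V⟩ := Opens.isBasis_iff_nbhd.mp Y.isBasis_affineOpens hyV
  obtain ⟨U₀, hU₀, hfib, hU₀V⟩ : ∃ U₀ : X.Opens, IsAffineOpen U₀ ∧ f ⁻¹' {y} ⊆ U₀ ∧
      U₀ ≤ f ⁻¹ᵁ V₀ := by
    rcases (f ⁻¹' {y}).eq_empty_or_nonempty with he | ⟨x, hx⟩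
    · exact ⟨⊥, isAffineOpen_bot _, he.le.trans (Set.empty_subset _), bot_le⟩
    · obtain ⟨U₀, hU₀, hxU₀, hle⟩ := Opens.isBasis_iff_nbhd.mp X.isBasis_affineOpens
        (show x ∈ f ⁻¹ᵁ V₀ by rw [Scheme.Hom.mem_preimage, show f x = y from hx]; exact hyV₀)
      exact ⟨U₀, hU₀, fun z hz => hfibre.1 hx hz ▸ hxU₀, hle⟩
  let C : Set ↥(f ⁻¹ᵁ V) := {z | z.1 ∉ U₀}
  have hC : IsClosed C := (U₀.2.preimage continuous_subtype_val).isClosed_compl
  let O : Y.Opens := V₀ ⊓ ⟨((fun v : V => v.1) '' (((f ∣_ V) '' C)ᶜ)),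
    V.2.isOpenMap_subtype_val _ ((f ∣_ V).isClosedMap _ hC).isOpen_compl⟩
  have hyO : y ∈ O := by
    refine ⟨hyV₀, ⟨y, hyV⟩, fun ⟨z, hz, e⟩ => hz (hfib ?_), rfl⟩
    have e' := congrArg Subtype.val e
    rw [morphismRestrict_base] at e'
    exact e'
  obtain ⟨g, hgO, hyg⟩ := hV₀.exists_basicOpen_le (V := O) ⟨y, hyO⟩ hyV₀
  let W := Y.basicOpen g
  have hW : IsAffineOpen W := hV₀.basicOpen g
  have hWV : W ≤ V := (Y.basicOpen_le g).trans hV₀V
  have hpre : f ⁻¹ᵁ W ≤ U₀ := fun z hz => by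
    by_contra hzU
    obtain ⟨⟨v, hv⟩, hv', e⟩ := (hgO hz).2
    refine hv' ⟨⟨z, show f z ∈ V from hWV hz⟩, hzU, Subtype.ext ?_⟩
    rw [morphismRestrict_base]
    exact e.symm
  have hU' : IsAffineOpen (f ⁻¹ᵁ W) := by
    have : f ⁻¹ᵁ W = X.basicOpen (f.appLE V₀ U₀ hU₀V g) := by
      rw [Scheme.basicOpen_appLE, inf_eq_right.2 hpre]
    exact this ▸ hU₀.basicOpen _
  have hcl : UniversallyClosed (f ∣_ W) := by
    have h1 : UniversallyClosed ((f ∣_ V) ∣_ (V.ι ⁻¹ᵁ W)) := IsZariskiLocalAtTarget.restrict hV _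
    have h2 := (MorphismProperty.arrow_mk_iso_iff @UniversallyClosed
      (morphismRestrictRestrict f V (V.ι ⁻¹ᵁ W))).1 h1
    rwa [Scheme.Hom.image_preimage_eq_opensRange_inf, Scheme.Opens.opensRange_ι,
      inf_eq_right.2 hWV] at h2
  have : IsAffine W.toScheme := hW
  have : IsAffine (f ⁻¹ᵁ W).toScheme := hU'
  have : LocallyOfFiniteType (f ∣_ W) := IsZariskiLocalAtTarget.restrict ‹_› _
  have hfin : IsFinite (f ∣_ W) := (IsFinite.iff_isIntegralHom_and_locallyOfFiniteType _).2
    ⟨IsIntegralHom.iff_universallyClosed_and_isAffineHom.2 ⟨hcl, isAffineHom_of_isAffine _⟩, ‹_›⟩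
  rcases h with he | hiso
  · -- empty fibre
    have hb : IsClosed (Set.range (f ∣_ W)) := (f ∣_ W).isClosedMap.isClosed_range
    obtain ⟨g', hg', hyg'⟩ := hW.exists_basicOpen_le (V := ⟨(fun v : W => v.1) '' (Set.range (f ∣_ W))ᶜ,
      W.2.isOpenMap_subtype_val _ hb.isOpen_compl⟩) ⟨y, ⟨y, hyg⟩, fun ⟨z, hz⟩ => by
        have e' := congrArg Subtype.val hz
        rw [morphismRestrict_base] at e'
        exact (hfibre.2 he).le (show z.1 ∈ f ⁻¹' {y} from e'), rfl⟩ hyg
    refine ⟨Y.basicOpen g', hyg', ?_⟩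
    have : IsEmpty (f ⁻¹ᵁ Y.basicOpen g').toScheme := ⟨fun z => by
      obtain ⟨v, hv, e⟩ := hg' (show f z.1 ∈ Y.basicOpen g' from z.2)
      exact hv ⟨⟨z.1, show f z.1 ∈ W from Y.basicOpen_le g' z.2⟩,
        Subtype.ext (by rw [morphismRestrict_base]; exact e.symm)⟩⟩
    infer_instance
  -- one rational point
  let A := Γ(Y, W)
  let B := Γ(X, f ⁻¹ᵁ W)
  let _ := (f.app W).hom.toAlgebra
  have hBfin : Module.Finite A B := by
    have h1 := (f ∣_ W).finite_appTop
    rw [Scheme.Hom.appTop, morphismRestrict_app, CommRingCat.hom_comp] at h1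
    have h2 : (f.app (W.ι ''ᵁ ⊤)).hom.Finite :=
      (RingHom.finite_respectsIso.cancel_right_isIso _ _).mp h1
    rw [Scheme.Opens.ι_image_top] at h2
    exact h2
  let p := hW.primeIdealOf ⟨y, hyg⟩
  let k := p.asIdeal.ResidueField
  let iL : CommRingCat.of k ⟶ CommRingCat.of (k ⊗[A] B) :=
    CommRingCat.ofHom Algebra.TensorProduct.includeLeftRingHom
  let iR : CommRingCat.of B ⟶ CommRingCat.of (k ⊗[A] B) :=
    CommRingCat.ofHom Algebra.TensorProduct.includeRight.toRingHom
  have sq0 : IsPullback (Spec.map iR) (Spec.map iL) (Spec.map (f.app W))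
      (Spec.map (CommRingCat.ofHom (algebraMap A k))) :=
    (isPullback_SpecMap_of_isPushout _ _ _ _ (CommRingCat.isPushout_tensorProduct A k B)).flip
  have sqW : IsPullback hU'.fromSpec (Spec.map (f.app W)) f hW.fromSpec := by
    refine IsPullback.of_iso (isPullback_morphismRestrict f W).flip hU'.isoSpec (Iso.refl _)
      hW.isoSpec (Iso.refl _) ?_ ?_ ?_ ?_
    · rw [Iso.refl_hom, Category.comp_id, IsAffineOpen.isoSpec_hom_fromSpec]
    · rw [← cancel_mono hW.fromSpec, Category.assoc, Category.assoc,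
        IsAffineOpen.isoSpec_hom_fromSpec, morphismRestrict_ι,
        Scheme.Hom.app_eq_appLE, hW.SpecMap_appLE_fromSpec f hU' le_rfl,
        IsAffineOpen.isoSpec_hom_fromSpec_assoc]
    · simp only [Iso.refl_hom, Category.comp_id, Category.id_comp]
    · rw [Iso.refl_hom, Category.comp_id, IsAffineOpen.isoSpec_hom_fromSpec]
  let c := Spec.map (CommRingCat.ofHom (algebraMap A k)) ≫ hW.fromSpec
  have big : IsPullback (Spec.map iR ≫ hU'.fromSpec) (Spec.map iL) f c := sq0.paste_horiz sqW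
  have hc : c (IsLocalRing.closedPoint k) = y := by
    rw [Scheme.Hom.comp_apply]
    refine Eq.trans (congrArg hW.fromSpec ?_) (hW.fromSpec_primeIdealOf ⟨y, hyg⟩)
    apply PrimeSpectrum.ext
    ext a
    change algebraMap A k a ∈ IsLocalRing.maximalIdeal k ↔ a ∈ p.asIdeal
    rw [IsLocalRing.maximalIdeal_eq_bot, Submodule.mem_bot, Ideal.algebraMap_residueField_eq_zero]
  obtain ⟨d, hd⟩ : ∃ d : Y.residueField y ⟶ CommRingCat.of k,
      Spec.map d ≫ Y.fromSpecResidueField y = c := by
    obtain ⟨⟨y', d⟩, hd⟩ : ∃ xf : Σ x, Y.residueField x ⟶ CommRingCat.of k,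
        Spec.map xf.2 ≫ Y.fromSpecResidueField xf.1 = c :=
      ⟨_, (Scheme.SpecToEquivOfField k Y).symm_apply_apply c⟩
    obtain rfl : y' = y := by
      rw [← hc, ← hd, Scheme.Hom.comp_apply, Scheme.fromSpecResidueField_apply]
    exact ⟨d, hd⟩
  let m := pullback.lift (f := f) (g := Y.fromSpecResidueField y) (Spec.map iR ≫ hU'.fromSpec)
    (Spec.map iL ≫ Spec.map d) (by rw [big.w, ← hd, Category.assoc])
  have sq2 : IsPullback m (Spec.map iL) (f.fiberToSpecResidueField y) (Spec.map d) := by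
    refine IsPullback.of_right ?_ (pullback.lift_snd _ _ _) (IsPullback.of_hasPullback _ _)
    rw [pullback.lift_fst, hd]
    exact big
  have hiL : IsIso (Spec.map iL) :=
    MorphismProperty.of_isPullback (P := MorphismProperty.isomorphisms _) sq2 hiso
  have hbij : Function.Surjective iL.hom := by
    have : IsIso (Scheme.Spec.map iL.op) := hiL
    have : IsIso iL.op := isIso_of_reflects_iso iL.op Scheme.Spec
    have : IsIso iL := isIso_of_op iL
    exact (ConcreteCategory.bijective_of_isIso iL).2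
  let N := LinearMap.range (Algebra.linearMap A B)
  have hp : p ∉ Module.support A (B ⧸ N) := by
    rw [Module.mem_support_iff_nontrivial_residueField_tensorProduct, not_nontrivial_iff_subsingleton]
    refine subsingleton_of_forall_eq 0 fun t => ?_
    obtain ⟨t', rfl⟩ := LinearMap.lTensor_surjective k N.mkQ_surjective t
    obtain ⟨a, rfl⟩ := hbij t'
    change N.mkQ.lTensor k (a ⊗ₜ[A] (1 : B)) = 0
    rw [LinearMap.lTensor_tmul, show N.mkQ (1 : B) = 0 from
      (Submodule.Quotient.mk_eq_zero N).2 ⟨1, (Algebra.linearMap_apply A B 1).trans (map_one _)⟩, TensorProduct.tmul_zero]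
  rw [Module.support_eq_zeroLocus, PrimeSpectrum.mem_zeroLocus, Set.not_subset] at hp
  obtain ⟨a, ha, hap⟩ := hp
  refine ⟨Y.basicOpen a, ?_, ?_⟩
  · rw [Scheme.mem_basicOpen _ _ _ hyg]
    let _ := (Y.presheaf.germ W y hyg).hom.toAlgebra
    have := hW.isLocalization_stalk ⟨y, hyg⟩
    exact (IsLocalization.AtPrime.isUnit_to_map_iff (Y.presheaf.stalk y) p.asIdeal a).2 hap
  have hWa : IsAffineOpen (Y.basicOpen a) := hW.basicOpen a
  have : IsAffine (Y.basicOpen a).toScheme := hWa
  have hpa : f ⁻¹ᵁ Y.basicOpen a = X.basicOpen (f.app W a) := f.preimage_basicOpen a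
  have : IsAffine (f ⁻¹ᵁ Y.basicOpen a).toScheme := hpa ▸ hU'.basicOpen _
  refine IsClosedImmersion.of_surjective_of_isAffine _ ?_
  rw [Scheme.Hom.appTop, morphismRestrict_app]
  refine Function.Surjective.comp (g := X.presheaf.map _) (ConcreteCategory.bijective_of_isIso _).2 ?_
  have key : Function.Surjective (f.app (Y.basicOpen a)).hom := by
    let _ := (Y.presheaf.map (homOfLE (Y.basicOpen_le a)).op).hom.toAlgebra
    let _ := (X.presheaf.map (homOfLE (X.basicOpen_le (f.app W a))).op).hom.toAlgebra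
    have := hW.isLocalization_basicOpen a
    have := hU'.isLocalization_basicOpen (f.app W a)
    intro z
    obtain ⟨⟨b, ⟨_, n, rfl⟩⟩, hb⟩ := IsLocalization.surj (Submonoid.powers (f.app W a))
      (X.presheaf.map (eqToHom hpa.symm).op z)
    obtain ⟨r, hr⟩ : a • b ∈ N := (Submodule.Quotient.mk_eq_zero N).1
      (Module.mem_annihilator.1 ha (Submodule.Quotient.mk b))
    obtain ⟨c, hc⟩ := (IsLocalization.map_units Γ(Y, Y.basicOpen a)
      (⟨a ^ (n + 1), n + 1, rfl⟩ : Submonoid.powers a)).exists_right_inv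
    refine ⟨algebraMap _ Γ(Y, Y.basicOpen a) r * c, ?_⟩
    apply (ConcreteCategory.bijective_of_isIso (X.presheaf.map (eqToHom hpa.symm).op)).1
    have nat : ∀ t : A, X.presheaf.map (eqToHom hpa.symm).op
        (f.app (Y.basicOpen a) (algebraMap _ Γ(Y, Y.basicOpen a) t)) =
        algebraMap _ Γ(X, X.basicOpen (f.app W a)) (f.app W t) := fun t => by
      change X.presheaf.map _ (f.app (Y.basicOpen a) (Y.presheaf.map _ t)) = X.presheaf.map _ _
      refine (congrArg (X.presheaf.map (eqToHom hpa.symm).op)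
        (ConcreteCategory.congr_hom (f.naturality (homOfLE (Y.basicOpen_le a)).op) t)).trans ?_
      exact (ConcreteCategory.congr_hom (X.presheaf.map_comp _ _) (f.app W t)).symm
    have hu := congrArg (fun t => X.presheaf.map (eqToHom hpa.symm).op (f.app (Y.basicOpen a) t)) hc
    simp only [map_mul, map_one, nat] at hu
    have hr' : f.app W r = f.app W a * b := hr
    simp only [map_mul, nat, hr']
    rw [← hb]
    simp only [map_mul, map_pow, pow_succ] at hu ⊢
    linear_combination (X.presheaf.map (eqToHom hpa.symm).op z) * hu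
  exact (show Function.Surjective (f.app ((Y.basicOpen a).ι ''ᵁ ⊤)).hom from
    (Scheme.Opens.ι_image_top (Y.basicOpen a)).symm ▸ key)

end Groth.Agent.SchMor12
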