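import Groth.Agent.SchMor12.WeaklyEtale
import Groth.Agent.HenselLib.WEtale

/-!
# Flatness over the source for morphisms with flat diagonal
-/

universe v u

set_option autoImplicit false
set_option backward.isDefEq.respectTransparency false

open CategoryTheory AlgebraicGeometry Limits TensorProduct TopologicalSpace Function

namespace Groth.Agent.SchMor12

/-- `HenselLib.WEt.flat_of_flat_lmul` for modules in any universe. -/
theorem flat_of_flat_lmul' {A B : Type u} [CommRing A] [CommRing B] [Algebra A B]
    (h : (Algebra.TensorProduct.lmul' A (S := B)).Flat) (N : Type v)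
    [AddCommGroup N] [Module B N] [Module A N] [IsScalarTower A B N] [Module.Flat A N] :
    Module.Flat B N := by
  rw [Module.Flat.iff_lTensor_injectiveₛ]
  intro Y _ _ X
  letI : AddCommGroup Y := Module.addCommMonoidToAddCommGroup B
  let f := X.subtype
  have hf : Injective f := X.injective_subtype
  letI : Module A X := Module.compHom X (algebraMap A B)
  haveI : IsScalarTower A B X := IsScalarTower.of_algebraMap_smul fun r x => rfl
  letI : Module A Y := Module.compHom Y (algebraMap A B)
  haveI : IsScalarTower A B Y := IsScalarTower.of_algebraMap_smul fun r x => rfl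
  let E := B ⊗[A] B
  letI : Algebra E B := (Algebra.TensorProduct.lmul' A (S := B)).toRingHom.toAlgebra
  haveI : Module.Flat E B := h
  -- the `E`-module structures
  let act : ∀ (Z : Type u) [AddCommGroup Z] [Module B Z] [Module A Z] [IsScalarTower A B Z],
      E →ₐ[A] Module.End A (N ⊗[A] Z) := fun Z _ _ _ _ =>
    Algebra.TensorProduct.lift
      { toFun := fun b => LinearMap.rTensor Z (Algebra.lsmul A A N b)
        map_one' := by rw [map_one]; exact LinearMap.rTensor_id _ _
        map_mul' := fun a b => by rw [map_mul]; exact LinearMap.rTensor_comp _ _ _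
        map_zero' := by rw [map_zero, LinearMap.rTensor_zero]
        map_add' := fun a b => by rw [map_add, LinearMap.rTensor_add]
        commutes' := fun r => TensorProduct.ext' fun n z => by
          simp only [LinearMap.rTensor_tmul, Algebra.lsmul_coe, Module.algebraMap_end_apply,
            algebraMap_smul, smul_tmul'] }
      { toFun := fun b => LinearMap.lTensor N (Algebra.lsmul A A Z b)
        map_one' := by rw [map_one]; exact LinearMap.lTensor_id _ _
        map_mul' := fun a b => by rw [map_mul]; exact LinearMap.lTensor_comp _ _ _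
        map_zero' := by rw [map_zero, LinearMap.lTensor_zero]
        map_add' := fun a b => by rw [map_add, LinearMap.lTensor_add]
        commutes' := fun r => TensorProduct.ext' fun n z => by
          simp only [LinearMap.lTensor_tmul, Algebra.lsmul_coe, Module.algebraMap_end_apply,
            algebraMap_smul, tmul_smul] }
      fun a b => TensorProduct.ext' fun n z => by simp
  letI mX : Module E (N ⊗[A] X) := Module.compHom _ (act X).toRingHom
  letI mY : Module E (N ⊗[A] Y) := Module.compHom _ (act Y).toRingHom
  have smul_X : ∀ (a b : B) (n : N) (x : X), (a ⊗ₜ[A] b : E) • (n ⊗ₜ[A] x) = (a • n) ⊗ₜ (b • x) :=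
    fun a b n x => by
      change act X (a ⊗ₜ[A] b) (n ⊗ₜ[A] x) = _
      simp only [act, Algebra.TensorProduct.lift_tmul]
      rfl
  have smul_Y : ∀ (a b : B) (n : N) (x : Y), (a ⊗ₜ[A] b : E) • (n ⊗ₜ[A] x) = (a • n) ⊗ₜ (b • x) :=
    fun a b n x => by
      change act Y (a ⊗ₜ[A] b) (n ⊗ₜ[A] x) = _
      simp only [act, Algebra.TensorProduct.lift_tmul]
      rfl
  let g : N ⊗[A] X →ₗ[E] N ⊗[A] Y :=
    { toFun := (f.restrictScalars A).lTensor N
      map_add' := map_add _
      map_smul' := fun e z => by
        induction e using TensorProduct.induction_on with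
        | zero => simp
        | add u v hu hv => simp only [add_smul, map_add, RingHom.id_apply] at *; rw [hu, hv]
        | tmul a b =>
          induction z with
          | zero => simp
          | add u v hu hv => simp only [smul_add, map_add, RingHom.id_apply] at *; rw [hu, hv]
          | tmul n x => simp [smul_X, smul_Y] }
  have hg : Injective g := Module.Flat.lTensor_preserves_injective_linearMap (f.restrictScalars A) hf
  have hEg : Injective (g.lTensor B) := Module.Flat.lTensor_preserves_injective_linearMap g hg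
  -- `B ⊗[E] (N ⊗[A] Z) → N ⊗[B] Z` has a left inverse
  have e1 : ∀ b : B, algebraMap E B (b ⊗ₜ[A] 1) = b := fun b => by
    change Algebra.TensorProduct.lmul' A (b ⊗ₜ[A] (1 : B)) = b
    simp
  have e2 : ∀ b : B, algebraMap E B ((1 : B) ⊗ₜ[A] b) = b := fun b => by
    change Algebra.TensorProduct.lmul' A ((1 : B) ⊗ₜ[A] b) = b
    simp
  let mkX : N →ₗ[B] X →ₗ[B] B ⊗[E] (N ⊗[A] X) := LinearMap.mk₂ B (fun n x => (1 : B) ⊗ₜ[E] (n ⊗ₜ[A] x))
    (fun a b x => by rw [add_tmul, tmul_add])
    (fun b n x => by
      rw [smul_tmul', smul_eq_mul, mul_one, show (b • n) ⊗ₜ[A] x = (b ⊗ₜ[A] 1 : E) • (n ⊗ₜ[A] x) by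
        rw [smul_X, one_smul], ← smul_tmul, Algebra.smul_def, mul_one, e1])
    (fun n x y => by rw [tmul_add, tmul_add])
    (fun b n x => by
      rw [smul_tmul', smul_eq_mul, mul_one, show n ⊗ₜ[A] (b • x) = ((1 : B) ⊗ₜ[A] b : E) • (n ⊗ₜ[A] x) by
        rw [smul_X, one_smul], ← smul_tmul, Algebra.smul_def, mul_one, e2])
  let mkY : N →ₗ[B] Y →ₗ[B] B ⊗[E] (N ⊗[A] Y) := LinearMap.mk₂ B (fun n x => (1 : B) ⊗ₜ[E] (n ⊗ₜ[A] x))
    (fun a b x => by rw [add_tmul, tmul_add])
    (fun b n x => by
      rw [smul_tmul', smul_eq_mul, mul_one, show (b • n) ⊗ₜ[A] x = (b ⊗ₜ[A] 1 : E) • (n ⊗ₜ[A] x) by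
        rw [smul_Y, one_smul], ← smul_tmul, Algebra.smul_def, mul_one, e1])
    (fun n x y => by rw [tmul_add, tmul_add])
    (fun b n x => by
      rw [smul_tmul', smul_eq_mul, mul_one, show n ⊗ₜ[A] (b • x) = ((1 : B) ⊗ₜ[A] b : E) • (n ⊗ₜ[A] x) by
        rw [smul_Y, one_smul], ← smul_tmul, Algebra.smul_def, mul_one, e2])
  let ψX := TensorProduct.lift mkX
  let ψY := TensorProduct.lift mkY
  let φA : N ⊗[A] X →ₗ[A] N ⊗[B] X :=
    TensorProduct.lift (LinearMap.mk₂ A (fun n x => n ⊗ₜ[B] x) (fun a b x => add_tmul _ _ _)
      (fun r n x => smul_tmul' _ _ _) (fun n x y => tmul_add _ _ _) (fun r n x => tmul_smul _ _ _))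
  have hψinj : Injective ψX := by
    let φE : B ⊗[E] (N ⊗[A] X) →+ N ⊗[B] X :=
      TensorProduct.liftAddHom
        (AddMonoidHom.mk' (fun b => (LinearMap.lsmul B (N ⊗[B] X) b).toAddMonoidHom.comp φA.toAddMonoidHom)
          (fun a b => AddMonoidHom.ext fun z => by
            change (a + b) • φA z = a • φA z + b • φA z
            exact add_smul _ _ _))
        (fun e b z => by
          change (e • b) • φA z = b • φA (e • z)
          rw [Algebra.smul_def, mul_comm, mul_smul]
          congr 1
          induction e using TensorProduct.induction_on with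
          | zero => simp
          | add u v hu hv => rw [map_add, add_smul, add_smul, map_add, hu, hv]
          | tmul a c =>
            induction z with
            | zero => simp
            | add u v hu hv => rw [map_add, smul_add, smul_add, map_add, hu, hv]
            | tmul n x =>
              rw [smul_X]
              change Algebra.TensorProduct.lmul' A (a ⊗ₜ[A] c) • (n ⊗ₜ[B] x) = (a • n) ⊗ₜ[B] (c • x)
              rw [Algebra.TensorProduct.lmul'_apply_tmul, mul_smul, tmul_smul, ← smul_tmul', smul_comm])
    have : ∀ z, φE (ψX z) = z := by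
      intro z
      induction z with
      | zero => simp
      | add u v hu hv => rw [map_add, map_add, hu, hv]
      | tmul n x =>
        change (1 : B) • φA (n ⊗ₜ[A] x) = _
        rw [one_smul]
        rfl
    exact LeftInverse.injective this
  intro a b hab
  refine hψinj (hEg ?_)
  have hnat : ∀ z, g.lTensor B (ψX z) = ψY (f.lTensor N z) := by
    intro z
    induction z with
    | zero => simp
    | add u v hu hv => simp only [map_add, hu, hv]
    | tmul n x => rfl
  rw [hnat, hnat, hab]

theorem flat_lmul_of_flat_diagonal {X S : Scheme.{u}} (f : X ⟶ S) [Flat (pullback.diagonal f)]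
    {U : X.Opens} {V : S.Opens} (hU : IsAffineOpen U) (hV : IsAffineOpen V) (h : U ≤ f ⁻¹ᵁ V) :
    letI := (f.appLE V U h).hom.toAlgebra
    (Algebra.TensorProduct.lmul' Γ(S, V) (S := Γ(X, U))).Flat := by
  let _ := (f.appLE V U h).hom.toAlgebra
  have h0 : MorphismProperty.diagonal @Flat f := ‹_›
  have hmono : MorphismProperty.diagonal @Flat (X.homOfLE h) :=
    inferInstanceAs (Flat (pullback.diagonal (X.homOfLE h)))
  have h1 : MorphismProperty.diagonal @Flat (f.resLE V U h) :=
    MorphismProperty.comp_mem _ _ _ hmono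
      (MorphismProperty.of_isPullback (isPullback_morphismRestrict f V).flip h0)
  rw [resLE_eq f hU hV h, MorphismProperty.cancel_left_of_respectsIso (MorphismProperty.diagonal @Flat),
    MorphismProperty.cancel_right_of_respectsIso (MorphismProperty.diagonal @Flat)] at h1
  have h2 : Flat (pullback.diagonal
      (Spec.map (CommRingCat.ofHom (algebraMap Γ(S, V) Γ(X, U))))) := h1
  rw [diagonal_SpecMap, MorphismProperty.cancel_right_of_respectsIso @Flat,
    HasRingHomProperty.Spec_iff (P := @Flat)] at h2
  exact h2

/-- A stalk module flat over the base local ring is flat over the local ring of the source. -/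
theorem flat_stalk_of_flat_diagonal {X S : Scheme.{u}} (f : X ⟶ S) [Flat (pullback.diagonal f)]
    (x : X) (M : Type v) [AddCommGroup M] [Module (X.presheaf.stalk x) M]
    (hM : letI := Module.compHom M (f.stalkMap x).hom
      Module.Flat (S.presheaf.stalk (f.base x)) M) :
    Module.Flat (X.presheaf.stalk x) M := by
  obtain ⟨V, hV, hxV, -⟩ := Opens.isBasis_iff_nbhd.mp S.isBasis_affineOpens
    (Opens.mem_top (f.base x))
  obtain ⟨U, hU, hxU, e⟩ := Opens.isBasis_iff_nbhd.mp X.isBasis_affineOpens
    (show x ∈ f ⁻¹ᵁ V from hxV)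
  let _ := (f.appLE V U e).hom.toAlgebra
  let _ := (S.presheaf.germ V (f.base x) hxV).hom.toAlgebra
  let _ := (X.presheaf.germ U x hxU).hom.toAlgebra
  let _ := Module.compHom M (f.stalkMap x).hom
  let _ := Module.compHom M (X.presheaf.germ U x hxU).hom
  let _ := Module.compHom M (S.presheaf.germ V (f.base x) hxV ≫ f.stalkMap x).hom
  have : IsScalarTower Γ(S, V) (S.presheaf.stalk (f.base x)) M :=
    IsScalarTower.of_algebraMap_smul fun _ _ => rfl
  have : IsScalarTower Γ(X, U) (X.presheaf.stalk x) M :=
    IsScalarTower.of_algebraMap_smul fun _ _ => rfl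
  have hgerm : f.appLE V U e ≫ X.presheaf.germ U x hxU =
      S.presheaf.germ V (f.base x) hxV ≫ f.stalkMap x := by
    rw [Scheme.Hom.appLE, Category.assoc, TopCat.Presheaf.germ_res, Scheme.Hom.germ_stalkMap]
  have : IsScalarTower Γ(S, V) Γ(X, U) M := IsScalarTower.of_algebraMap_smul fun r m => by
    change (f.appLE V U e ≫ X.presheaf.germ U x hxU).hom r • m = _
    rw [hgerm]
    rfl
  have := hV.isLocalization_stalk ⟨f.base x, hxV⟩
  have := hU.isLocalization_stalk ⟨x, hxU⟩
  have : Module.Flat Γ(S, V) M := (Module.flat_iff_of_isLocalization (S.presheaf.stalk (f.base x))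
    (hV.primeIdealOf ⟨f.base x, hxV⟩).asIdeal.primeCompl M).1 hM
  have : Module.Flat Γ(X, U) M :=
    flat_of_flat_lmul' (flat_lmul_of_flat_diagonal f hU hV e) M
  exact (Module.flat_iff_of_isLocalization (X.presheaf.stalk x)
    (hU.primeIdealOf ⟨x, hxU⟩).asIdeal.primeCompl M).2 this

end Groth.Agent.SchMor12
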