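import Groth.Prelude.Def_W4stkremschemesLRS
import Mathlib.Geometry.RingedSpace.LocallyRingedSpace
import Mathlib.AlgebraicGeometry.Morphisms.ClosedImmersion

/-!
# Closed immersions of locally ringed spaces

* factorisation through a closed immersion, and its uniqueness;
* into a scheme: kernels localise on affine opens, so are determined by affine opens;
* closed immersions of schemes are closed immersions of locally ringed spaces.
-/

set_option autoImplicit false
set_option backward.isDefEq.respectTransparency false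

universe u

open CategoryTheory AlgebraicGeometry TopologicalSpace Opposite

namespace Groth.Agent.SchMor12

variable {Z X Y : LocallyRingedSpace.{u}}

/-- Restriction of sections. -/
noncomputable abbrev res (Y : LocallyRingedSpace.{u}) {U V : Opens Y.toTopCat} (h : V ≤ U) :
    Y.presheaf.obj (op U) →+* Y.presheaf.obj (op V) :=
  (Y.presheaf.map (homOfLE h).op).hom

/-- Preimage of an open. -/
abbrev pull (f : Y ⟶ X) (U : Opens X.toTopCat) : Opens Y.toTopCat := (Opens.map f.base).obj U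

theorem res_res {U V W : Opens Y.toTopCat} (h : V ≤ U) (h' : W ≤ V) (a : Y.presheaf.obj (op U)) :
    res Y h' (res Y h a) = res Y (h'.trans h) a :=
  (ConcreteCategory.congr_hom (Y.presheaf.map_comp (homOfLE h).op (homOfLE h').op) a).symm

theorem c_res (f : Y ⟶ X) {U V : Opens X.toTopCat} (h : V ≤ U) (s : X.presheaf.obj (op U)) :
    f.c.app (op V) (res X h s) = res Y (show pull f V ≤ pull f U from fun _ hx => h hx)
      (f.c.app (op U) s) :=
  ConcreteCategory.congr_hom (f.c.naturality (homOfLE h).op) s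

theorem sec_ext {V : Opens Y.toTopCat} (a b : Y.presheaf.obj (op V))
    (h : ∀ y ∈ V, ∃ (W : Opens Y.toTopCat) (hW : W ≤ V), y ∈ W ∧ res Y hW a = res Y hW b) :
    a = b := by
  choose W hW hy e using h
  exact TopCat.Sheaf.eq_of_locally_eq' Y.sheaf (fun y : V => W y.1 y.2) V
    (fun y => homOfLE (hW y.1 y.2)) (fun y hyV => Opens.mem_iSup.2 ⟨⟨y, hyV⟩, hy y hyV⟩) a b
    (fun y => e y.1 y.2)

theorem range_subset_of_kills (i : Z ⟶ X) (hi : Topology.IsClosedEmbedding i.base) (f : Y ⟶ X)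
    (hk : ∀ (U : Opens X.toTopCat) (s : X.presheaf.obj (op U)),
      i.c.app (op U) s = 0 → f.c.app (op U) s = 0) :
    Set.range f.base ⊆ Set.range i.base := by
  rintro _ ⟨y, rfl⟩
  by_contra hy
  let U : Opens X.toTopCat := ⟨(Set.range i.base)ᶜ, hi.isClosed_range.isOpen_compl⟩
  have h1 : i.c.app (op U) 1 = 0 := sec_ext (Y := Z) _ _ fun z hz => absurd ⟨z, rfl⟩ hz
  have h2 := congrArg (Y.presheaf.germ (pull f U) y hy) (hk U 1 h1)
  erw [map_one, map_one, map_zero] at h2
  exact one_ne_zero h2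

theorem stalkMap_surjective (i : Z ⟶ X) (hi : Topology.IsInducing i.base)
    (hs : TopCat.Presheaf.IsLocallySurjective i.c) (z : Z.toTopCat) :
    Function.Surjective (i.stalkMap z).hom := by
  have h1 := (TopCat.Presheaf.locally_surjective_iff_surjective_on_stalks i.c).1 hs (i.base z)
  have := TopCat.Presheaf.stalkPushforward.stalkPushforward_iso_of_isInducing CommRingCat hi Z.presheaf z
  exact (ConcreteCategory.bijective_of_isIso (Z.presheaf.stalkPushforward CommRingCat i.base z)).2.comp h1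

theorem exists_lift (i : Z ⟶ X) (hi : Topology.IsInducing i.base)
    (hs : TopCat.Presheaf.IsLocallySurjective i.c) {V : Opens Z.toTopCat}
    (s : Z.presheaf.obj (op V)) {z : Z.toTopCat} (hz : z ∈ V) :
    ∃ (U : Opens X.toTopCat) (hUV : pull i U ≤ V) (t : X.presheaf.obj (op U)),
      i.base z ∈ U ∧ i.c.app (op U) t = res Z hUV s := by
  obtain ⟨U₀, hU₀, e⟩ := hi.isOpen_iff.1 V.2
  have hle : pull i ⟨U₀, hU₀⟩ ≤ V := e.le
  obtain ⟨W, hW, ⟨t, ht⟩, hzW⟩ := (TopCat.Presheaf.isLocallySurjective_iff i.c).1 hs ⟨U₀, hU₀⟩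
    (res Z hle s) (i.base z) (show z ∈ i.base ⁻¹' U₀ from e.ge hz)
  refine ⟨W, fun a ha => hle (hW ha), t, hzW, ?_⟩
  refine ht.trans ?_
  exact res_res hle _ s

theorem exists_fac_core (i : Z ⟶ X) (hi : Topology.IsClosedEmbedding i.base)
    (hs : TopCat.Presheaf.IsLocallySurjective i.c) (γ : Y.toTopCat ⟶ Z.toTopCat)
    (c : X.presheaf ⟶ (γ ≫ i.base) _* Y.presheaf)
    (hloc : ∀ y, IsLocalHom (PresheafedSpace.Hom.stalkMap
      (⟨γ ≫ i.base, c⟩ : Y.toPresheafedSpace ⟶ X.toPresheafedSpace) y).hom)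
    (hk : ∀ (U : Opens X.toTopCat) (s : X.presheaf.obj (op U)),
      i.c.app (op U) s = 0 → c.app (op U) s = 0) :
    ∃ g : Y ⟶ Z, (g ≫ i).toHom = ⟨γ ≫ i.base, c⟩ := by
  classical
  let f : Y ⟶ X := ⟨⟨γ ≫ i.base, c⟩, hloc⟩
  have spec : ∀ (V : Opens Z.toTopCat) (s : Z.presheaf.obj (op V)),
      ∃! r : Y.presheaf.obj (op ((Opens.map γ).obj V)),
        ∀ (U : Opens X.toTopCat) (hUV : pull i U ≤ V) (t : X.presheaf.obj (op U)),
          i.c.app (op U) t = res Z hUV s →
            res Y (show pull f U ≤ (Opens.map γ).obj V from fun _ hy => hUV hy) r =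
              c.app (op U) t := by
    intro V s
    let ι := Σ' (U : Opens X.toTopCat) (hUV : pull i U ≤ V),
      {t : X.presheaf.obj (op U) // i.c.app (op U) t = res Z hUV s}
    obtain ⟨r, hr, hu⟩ := TopCat.Sheaf.existsUnique_gluing' Y.sheaf (fun p : ι => pull f p.1)
      ((Opens.map γ).obj V) (fun p => homOfLE fun y hy => p.2.1 hy)
      (fun y hy => by
        obtain ⟨U, hUV, t, hyU, ht⟩ := exists_lift i hi.isInducing hs s (z := γ y) hy
        exact Opens.mem_iSup.2 ⟨⟨U, hUV, t, ht⟩, hyU⟩)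
      (fun p => c.app (op p.1) p.2.2.1) (by
        rintro ⟨U, hUV, t, ht⟩ ⟨U', hUV', t', ht'⟩
        have h0 : i.c.app (op (U ⊓ U')) (res X inf_le_left t - res X inf_le_right t') = 0 := by
          rw [map_sub, c_res, c_res, ht, ht', res_res, res_res, sub_self]
        have h1 := hk _ _ h0
        rw [map_sub, sub_eq_zero] at h1
        exact ((c_res f inf_le_left t).symm.trans h1).trans (c_res f inf_le_right t'))
    exact ⟨r, fun U hUV t ht => hr ⟨U, hUV, t, ht⟩, fun r' h' => hu r' fun p => h' p.1 p.2.1 p.2.2.1 p.2.2.2⟩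
  choose gA hgA _ using spec
  have key : ∀ (V : Opens Z.toTopCat) (r r' : Y.presheaf.obj (op ((Opens.map γ).obj V))),
      (∀ y, γ y ∈ V → ∃ (U : Opens X.toTopCat) (hUV : pull i U ≤ V), i.base (γ y) ∈ U ∧
        res Y (show pull f U ≤ (Opens.map γ).obj V from fun _ hy => hUV hy) r =
          res Y (show pull f U ≤ (Opens.map γ).obj V from fun _ hy => hUV hy) r') → r = r' :=
    fun V r r' h => sec_ext r r' fun y hy => by
      obtain ⟨U, hUV, hyU, e⟩ := h y hy
      exact ⟨pull f U, _, hyU, e⟩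
  have hom₁ : ∀ V, gA V 1 = 1 := fun V => key V _ _ fun y hy => by
    obtain ⟨U, hUV, t, hyU, -⟩ := exists_lift i hi.isInducing hs (1 : Z.presheaf.obj (op V)) hy
    refine ⟨U, hUV, hyU, ?_⟩
    rw [hgA V 1 U hUV 1 (by rw [map_one, map_one]), map_one, map_one]
  have hom₀ : ∀ V, gA V 0 = 0 := fun V => key V _ _ fun y hy => by
    obtain ⟨U, hUV, t, hyU, -⟩ := exists_lift i hi.isInducing hs (0 : Z.presheaf.obj (op V)) hy
    refine ⟨U, hUV, hyU, ?_⟩
    rw [hgA V 0 U hUV 0 (by rw [map_zero, map_zero]), map_zero, map_zero]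
  have both : ∀ (V : Opens Z.toTopCat) (a b : Z.presheaf.obj (op V)) (y : Y.toTopCat), γ y ∈ V →
      ∃ (U : Opens X.toTopCat) (hUV : pull i U ≤ V), i.base (γ y) ∈ U ∧
        ∃ ta tb, i.c.app (op U) ta = res Z hUV a ∧ i.c.app (op U) tb = res Z hUV b := by
    intro V a b y hy
    obtain ⟨U, hUV, t, hyU, ht⟩ := exists_lift i hi.isInducing hs a hy
    obtain ⟨U', hUV', t', hyU', ht'⟩ := exists_lift i hi.isInducing hs b hy
    refine ⟨U ⊓ U', fun z hz => hUV hz.1, ⟨hyU, hyU'⟩, res X inf_le_left t, res X inf_le_right t',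
      ?_, ?_⟩
    · rw [c_res, ht, res_res]
    · rw [c_res, ht', res_res]
  have homadd : ∀ V a b, gA V (a + b) = gA V a + gA V b := fun V a b => key V _ _ fun y hy => by
    obtain ⟨U, hUV, hyU, ta, tb, ha, hb⟩ := both V a b y hy
    refine ⟨U, hUV, hyU, ?_⟩
    rw [hgA V _ U hUV (ta + tb) (by rw [map_add, ha, hb, map_add]), map_add, map_add,
      hgA V a U hUV ta ha, hgA V b U hUV tb hb]
  have hommul : ∀ V a b, gA V (a * b) = gA V a * gA V b := fun V a b => key V _ _ fun y hy => by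
    obtain ⟨U, hUV, hyU, ta, tb, ha, hb⟩ := both V a b y hy
    refine ⟨U, hUV, hyU, ?_⟩
    rw [hgA V _ U hUV (ta * tb) (by rw [map_mul, ha, hb, map_mul]), map_mul, map_mul,
      hgA V a U hUV ta ha, hgA V b U hUV tb hb]
  let gc : Z.presheaf ⟶ γ _* Y.presheaf :=
    { app := fun V => CommRingCat.ofHom
        { toFun := gA V.unop
          map_one' := hom₁ _
          map_zero' := hom₀ _
          map_add' := homadd _
          map_mul' := hommul _ }
      naturality := fun V V' φ => by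
        ext s
        refine key V'.unop (gA V'.unop (Z.presheaf.map φ s))
          (res Y (fun y hy => φ.unop.le hy) (gA V.unop s)) fun y hy => ?_
        obtain ⟨U, hUV, t, hyU, ht⟩ := exists_lift i hi.isInducing hs (Z.presheaf.map φ s) hy
        refine ⟨U, hUV, hyU, ?_⟩
        rw [res_res, hgA _ _ U hUV t ht]
        refine (hgA _ s U (hUV.trans φ.unop.le) t ?_).symm
        rw [ht]
        exact res_res φ.unop.le hUV s }
  let g₀ : Y.toPresheafedSpace ⟶ Z.toPresheafedSpace := ⟨γ, gc⟩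
  have hfac : g₀ ≫ i.toHom = (⟨γ ≫ i.base, c⟩ : Y.toPresheafedSpace ⟶ X.toPresheafedSpace) := by
    refine PresheafedSpace.ext _ _ rfl ?_
    rw [eqToHom_refl, Functor.whiskerRight_id']
    refine (Category.comp_id _).trans ?_
    ext U t
    have := hgA (pull i U) (i.c.app (op U) t) U le_rfl t
      (ConcreteCategory.congr_hom (Z.presheaf.map_id _) _).symm
    refine Eq.trans ?_ this
    exact (ConcreteCategory.congr_hom (Y.presheaf.map_id _) _).symm
  refine ⟨⟨g₀, fun y => ⟨fun a ha => ?_⟩⟩, hfac⟩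
  obtain ⟨b, rfl⟩ := stalkMap_surjective i hi.isInducing hs (γ y) a
  have hl : IsLocalHom (PresheafedSpace.Hom.stalkMap (g₀ ≫ i.toHom) y).hom := by
    rw [hfac]; exact hloc y
  rw [PresheafedSpace.stalkMap.comp] at hl
  exact (hl.map_nonunit b ha).map _

theorem exists_fac (i : Z ⟶ X) (hi : Topology.IsClosedEmbedding i.base)
    (hs : TopCat.Presheaf.IsLocallySurjective i.c) (f : Y ⟶ X)
    (hk : ∀ (U : Opens X.toTopCat) (s : X.presheaf.obj (op U)),
      i.c.app (op U) s = 0 → f.c.app (op U) s = 0) :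
    ∃ g : Y ⟶ Z, g ≫ i = f := by
  have hr := range_subset_of_kills i hi f hk
  obtain ⟨γ, hγ⟩ : ∃ γ : Y.toTopCat ⟶ Z.toTopCat, f.base = γ ≫ i.base := by
    choose γ₀ hγ₀ using fun y => hr (Set.mem_range_self y)
    refine ⟨TopCat.ofHom ⟨γ₀, hi.isInducing.continuous_iff.2
      ((funext hγ₀ : i.base ∘ γ₀ = f.base) ▸ f.base.hom.continuous)⟩, ?_⟩
    ext y
    exact (hγ₀ y).symm
  obtain ⟨⟨fb, fc⟩, hloc⟩ := f
  obtain rfl : fb = γ ≫ i.base := hγ
  obtain ⟨g, hg⟩ := exists_fac_core i hi hs γ fc hloc hk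
  exact ⟨g, LocallyRingedSpace.Hom.ext' hg⟩

theorem fac_unique (i : Z ⟶ X) (hi : Topology.IsClosedEmbedding i.base)
    (hs : TopCat.Presheaf.IsLocallySurjective i.c) (g g' : Y ⟶ Z) (h : g ≫ i = g' ≫ i) :
    g = g' := by
  obtain ⟨⟨gb, gc⟩, gl⟩ := g
  obtain ⟨⟨gb', gc'⟩, gl'⟩ := g'
  obtain rfl : gb = gb' := by
    ext y
    refine hi.injective ?_
    exact congr(($h).base y)
  have hc : ∀ (U : Opens X.toTopCat) (t : X.presheaf.obj (op U)),
      gc.app (op (pull i U)) (i.c.app (op U) t) = gc'.app (op (pull i U)) (i.c.app (op U) t) := by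
    intro U t
    have h1 := congrArg (fun k => k.toHom) h
    injection h1 with h1 h2
    exact congr(($h2).app (op U) t)
  suffices hgc : gc = gc' by subst hgc; rfl
  ext V s
  refine sec_ext (gc.app (op V) s) (gc'.app (op V) s) fun y hy => ?_
  obtain ⟨U, hUV, t, hyU, ht⟩ := exists_lift i hi.isInducing hs s (z := gb y) hy
  refine ⟨(Opens.map gb).obj (pull i U), fun _ hy => hUV hy, hyU, ?_⟩
  have e1 := ConcreteCategory.congr_hom (gc.naturality (homOfLE hUV).op) s
  have e2 := ConcreteCategory.congr_hom (gc'.naturality (homOfLE hUV).op) s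
  refine e1.symm.trans (Eq.trans ?_ e2)
  change gc.app _ (res Z hUV s) = gc'.app _ (res Z hUV s)
  rw [← ht]
  exact hc U t

theorem kills_of_fac (i : Z ⟶ X) (g : Y ⟶ Z) (U : Opens X.toTopCat) (s : X.presheaf.obj (op U))
    (h : i.c.app (op U) s = 0) : (g ≫ i).c.app (op U) s = 0 := by
  change g.c.app _ (i.c.app (op U) s) = 0
  rw [h, map_zero]

section Scheme

variable {S : Scheme.{u}} (i : Z ⟶ S.toLocallyRingedSpace)

/-- The germs of a section killed by `i` lie in the kernel on stalks. -/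
theorem germ_mem_ker {U : S.Opens} (a : Γ(S, U)) (h : i.c.app (op U) a = 0) {x : S} (hx : x ∈ U) :
    S.presheaf.germ U x hx a ∈
      RingHom.ker ((TopCat.Presheaf.stalkFunctor CommRingCat x).map i.c).hom := by
  rw [RingHom.mem_ker]
  refine (TopCat.Presheaf.stalkFunctor_map_germ_apply U x hx i.c a).trans ?_
  rw [h]
  exact map_zero _

/-- Kernels of closed immersions into schemes localise on affine opens. -/
theorem exists_pow_mul_killed (hgen : LRSImm.KerLocallyGenerated i) {U : S.Opens}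
    (hU : IsAffineOpen U) (g a : Γ(S, U))
    (h : i.c.app (op (S.basicOpen g)) (S.presheaf.map (homOfLE (S.basicOpen_le g)).op a) = 0) :
    ∃ m : ℕ, i.c.app (op U) (g ^ m * a) = 0 := by
  classical
  have loc : ∀ x : U, ∃ (D : S.Opens) (hD : D ≤ U) (m : ℕ), x.1 ∈ D ∧
      i.c.app (op D) (res S.toLocallyRingedSpace hD (g ^ m * a)) = 0 := by
    rintro ⟨x, hx⟩
    obtain ⟨V, hxV, κ, s, hs, hgens⟩ := hgen x
    obtain ⟨r, hrV, hxr⟩ := hU.exists_basicOpen_le (V := V) ⟨x, hxV⟩ hx
    have hDa : IsAffineOpen (S.basicOpen r) := hU.basicOpen r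
    let D := S.basicOpen r
    have hD : D ≤ U := S.basicOpen_le r
    let J : Ideal Γ(S, D) := Ideal.span (Set.range fun k => res S.toLocallyRingedSpace hrV (s k))
    have hJ : ∀ b ∈ J, i.c.app (op D) b = 0 := by
      intro b hb
      have : J ≤ RingHom.ker (i.c.app (op D)).hom := Ideal.span_le.2 (by
        rintro _ ⟨k, rfl⟩
        exact (c_res i hrV (s k)).trans (by rw [hs, map_zero]))
      exact this hb
    let Q : Ideal Γ(S, D) := Submodule.colon J {res S.toLocallyRingedSpace hD a}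
    suffices res S.toLocallyRingedSpace hD g ∈ Q.radical by
      obtain ⟨m, hm⟩ := this
      refine ⟨D, hD, m, hxr, hJ _ ?_⟩
      rw [map_mul, map_pow]
      exact Submodule.mem_colon_singleton.1 hm
    rw [Ideal.radical_eq_sInf, Submodule.mem_sInf]
    rintro p ⟨hQp, hp⟩
    by_contra hg
    let P : PrimeSpectrum Γ(S, D) := ⟨p, hp⟩
    have hyD : hDa.fromSpec P ∈ D := by
      rw [← SetLike.mem_coe, ← hDa.range_fromSpec]; exact ⟨_, rfl⟩
    let y : S := hDa.fromSpec P
    have hpy : hDa.primeIdealOf ⟨y, hyD⟩ = P :=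
      hDa.fromSpec.isOpenEmbedding.injective (hDa.fromSpec_primeIdealOf _)
    let _ := (S.presheaf.germ D y hyD).hom.toAlgebra
    have := hDa.isLocalization_stalk ⟨y, hyD⟩
    have hyg : y ∈ S.basicOpen g := by
      rw [Scheme.mem_basicOpen _ _ _ (hD hyD),
        ← TopCat.Presheaf.germ_res_apply S.presheaf (homOfLE hD) y hyD g]
      refine (IsLocalization.AtPrime.isUnit_to_map_iff (S.presheaf.stalk y)
        (hDa.primeIdealOf ⟨y, hyD⟩).asIdeal _).2 ?_
      rw [hpy]
      exact hg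
    have hmem : algebraMap Γ(S, D) (S.presheaf.stalk y) (res S.toLocallyRingedSpace hD a) ∈
        J.map (algebraMap Γ(S, D) (S.presheaf.stalk y)) := by
      have h1 := germ_mem_ker i _ h hyg
      rw [← hgens y (hrV hyD)] at h1
      rw [Ideal.map_span, ← Set.range_comp]
      have e : S.presheaf.germ (S.basicOpen g) y hyg
          (S.presheaf.map (homOfLE (S.basicOpen_le g)).op a) =
          algebraMap Γ(S, D) (S.presheaf.stalk y) (res S.toLocallyRingedSpace hD a) := by
        change _ = S.presheaf.germ D y hyD (S.presheaf.map (homOfLE hD).op a)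
        rw [TopCat.Presheaf.germ_res_apply, TopCat.Presheaf.germ_res_apply]
      rw [← e]
      have e2 : (algebraMap Γ(S, D) (S.presheaf.stalk y) ∘ fun k =>
          res S.toLocallyRingedSpace hrV (s k)) = fun k => S.presheaf.germ V y (hrV hyD) (s k) :=
        funext fun k => TopCat.Presheaf.germ_res_apply S.presheaf (homOfLE hrV) y hyD (s k)
      rw [e2]
      exact h1
    obtain ⟨⟨⟨b, hb⟩, ⟨c, hc⟩⟩, e⟩ := (IsLocalization.mem_map_algebraMap_iff
      (hDa.primeIdealOf ⟨y, hyD⟩).asIdeal.primeCompl (S.presheaf.stalk y)).1 hmem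
    rw [← map_mul] at e
    obtain ⟨d, hd⟩ := (IsLocalization.eq_iff_exists
      (hDa.primeIdealOf ⟨y, hyD⟩).asIdeal.primeCompl (S.presheaf.stalk y)).1 e
    have hdc : (d : Γ(S, D)) * c ∈ Q := Submodule.mem_colon_singleton.2 (by
      rw [smul_eq_mul, mul_assoc, mul_comm c, hd]
      exact J.mul_mem_left _ hb)
    have : (d : Γ(S, D)) * c ∈ (hDa.primeIdealOf ⟨y, hyD⟩).asIdeal.primeCompl := mul_mem d.2 hc
    exact this ((SetLike.ext_iff.1 (congrArg PrimeSpectrum.asIdeal hpy) _).2 (hQp hdc))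
  choose D hD m hxD hm using loc
  obtain ⟨F, hF⟩ := hU.isCompact.elim_finite_subcover (fun x : U => (D x : Set S))
    (fun x => (D x).2) (fun x hx => Set.mem_iUnion.2 ⟨⟨x, hx⟩, hxD ⟨x, hx⟩⟩)
  refine ⟨F.sup m, sec_ext (Y := Z) _ _ fun z hz => ?_⟩
  obtain ⟨x, hxF, hzx⟩ := Set.mem_iUnion₂.1 (hF (show i.base z ∈ (U : Set S) from hz))
  refine ⟨pull i (D x), fun _ hy => hD x hy, hzx, ?_⟩
  rw [map_zero, ← c_res i (hD x)]
  have hle : m x ≤ F.sup m := Finset.le_sup hxF
  rw [← Nat.sub_add_cancel hle, pow_add, mul_assoc, map_mul, map_mul, hm x, mul_zero]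

/-- Containment of kernels is decided on an affine open cover. -/
theorem kills_of_affine (hgen : LRSImm.KerLocallyGenerated i) {W : LocallyRingedSpace.{u}}
    (j : W ⟶ S.toLocallyRingedSpace)
    (h : ∀ x : S, ∃ U : S.Opens, IsAffineOpen U ∧ x ∈ U ∧
      ∀ a : Γ(S, U), i.c.app (op U) a = 0 → j.c.app (op U) a = 0)
    (V : S.Opens) (s : Γ(S, V)) (hs : i.c.app (op V) s = 0) : j.c.app (op V) s = 0 := by
  refine sec_ext (Y := W) _ _ fun w hw => ?_
  obtain ⟨U, hU, hxU, hUk⟩ := h (j.base w)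
  obtain ⟨g, hgV, hxg⟩ := hU.exists_basicOpen_le (V := V) ⟨j.base w, hw⟩ hxU
  let _ := (S.presheaf.map (homOfLE (S.basicOpen_le g)).op).hom.toAlgebra
  have := hU.isLocalization_basicOpen g
  refine ⟨pull j (S.basicOpen g), fun _ hy => hgV hy, hxg, ?_⟩
  rw [map_zero, ← c_res j hgV]
  obtain ⟨⟨a, ⟨_, n, rfl⟩⟩, hab⟩ :=
    IsLocalization.surj (Submonoid.powers g) (res S.toLocallyRingedSpace hgV s)
  obtain ⟨m, hm⟩ := exists_pow_mul_killed i hgen hU g a (by
    change i.c.app (op (S.basicOpen g)) (algebraMap Γ(S, U) Γ(S, S.basicOpen g) a) = 0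
    rw [← hab, map_mul, c_res, hs, map_zero, zero_mul])
  have h2 := congrArg (res W (show pull j (S.basicOpen g) ≤ pull j U from
    fun _ hy => S.basicOpen_le g hy)) (hUk _ hm)
  rw [map_zero, ← c_res j (S.basicOpen_le g)] at h2
  have h3 : j.c.app (op (S.basicOpen g)) (algebraMap Γ(S, U) Γ(S, S.basicOpen g) (g ^ m * a)) = 0 :=
    h2
  rw [map_mul, ← hab, ← mul_assoc, mul_comm _ (res S.toLocallyRingedSpace hgV s), mul_assoc,
    map_mul] at h3
  have hu : IsUnit (j.c.app (op (S.basicOpen g)) ((algebraMap Γ(S, U) Γ(S, S.basicOpen g) (g ^ m)) *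
      algebraMap Γ(S, U) Γ(S, S.basicOpen g) (g ^ n))) := by
    refine IsUnit.map (j.c.app (op (S.basicOpen g))).hom ?_
    rw [← map_mul, ← pow_add, map_pow]
    exact (IsLocalization.Away.algebraMap_isUnit g).pow _
  exact hu.mul_left_eq_zero.1 h3

end Scheme

/-- A morphism of schemes which is a closed embedding with locally surjective sheaf map is a closed
immersion of locally ringed spaces. -/
theorem isClosedImmersion_toLRSHom {X Y : Scheme.{u}} (f : X ⟶ Y)
    (h1 : Topology.IsClosedEmbedding f) (h2 : TopCat.Presheaf.IsLocallySurjective f.c) :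
    LRSImm.IsClosedImmersion f.toLRSHom := by
  classical
  refine ⟨h1, h2, fun x => ?_⟩
  have : IsClosedImmersion f :=
    { isClosedEmbedding := h1
      stalkMap_surjective := fun z => stalkMap_surjective f.toLRSHom h1.isInducing h2 z }
  obtain ⟨_, ⟨U, hU, rfl⟩, hx, -⟩ :=
    Y.isBasis_affineOpens.exists_subset_of_mem_open (Set.mem_univ x) isOpen_univ
  refine ⟨U, hx, RingHom.ker (f.app U).hom, fun k => k.1, fun k => k.2, fun y hy => ?_⟩
  refine le_antisymm (Ideal.span_le.2 ?_) fun e he => ?_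
  · rintro _ ⟨k, rfl⟩
    exact germ_mem_ker f.toLRSHom k.1 k.2 hy
  obtain ⟨V, hyV, a, rfl⟩ := Y.presheaf.exists_germ_eq e
  have he' := (TopCat.Presheaf.stalkFunctor_map_germ_apply V y hyV f.toLRSHom.c a).symm.trans he
  obtain ⟨W, hyW, hWV, hWV', e'⟩ := TopCat.Presheaf.germ_eq _ y hyV hyV
    (f.toLRSHom.c.app (op V) a) 0 (he'.trans (map_zero _).symm)
  obtain ⟨g, hgW, hyg⟩ := hU.exists_basicOpen_le (V := W) ⟨y, hyW⟩ hy
  let _ := (Y.presheaf.map (homOfLE (Y.basicOpen_le g)).op).hom.toAlgebra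
  have := hU.isLocalization_basicOpen g
  have hgV : Y.basicOpen g ≤ V := hgW.trans hWV.le
  have hzero : f.app (Y.basicOpen g) (res Y.toLocallyRingedSpace hgV a) = 0 := by
    change f.toLRSHom.c.app _ _ = _
    rw [c_res]
    have := congrArg (res X.toLocallyRingedSpace
      (show pull f.toLRSHom (Y.basicOpen g) ≤ pull f.toLRSHom W from fun _ hy => hgW hy)) e'
    rw [map_zero, map_zero] at this
    refine Eq.trans ?_ this
    exact (res_res (Y := X.toLocallyRingedSpace) _ _ _).symm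
  obtain ⟨⟨b, ⟨_, n, rfl⟩⟩, hab⟩ :=
    IsLocalization.surj (Submonoid.powers g) (res Y.toLocallyRingedSpace hgV a)
  have hb : f.app (Y.basicOpen g) (algebraMap Γ(Y, U) Γ(Y, Y.basicOpen g) b) = 0 := by
    rw [← hab, map_mul, hzero, zero_mul]
  have hle : X.basicOpen (f.app U g) = f ⁻¹ᵁ Y.basicOpen g := (f.preimage_basicOpen g).symm
  let _ := (X.presheaf.map (homOfLE (X.basicOpen_le (f.app U g))).op).hom.toAlgebra
  have := (hU.preimage f).isLocalization_basicOpen (f.app U g)
  have hb' : algebraMap Γ(X, f ⁻¹ᵁ U) Γ(X, X.basicOpen (f.app U g)) (f.app U b) = 0 := by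
    have h3 := congrArg (X.presheaf.map (homOfLE hle.le).op) hb
    rw [map_zero] at h3
    refine Eq.trans ?_ h3
    change _ = X.presheaf.map _ (f.toLRSHom.c.app _ (res Y.toLocallyRingedSpace (Y.basicOpen_le g) b))
    rw [c_res]
    exact (res_res (Y := X.toLocallyRingedSpace) _ hle.le _).symm
  obtain ⟨⟨_, m, rfl⟩, hm⟩ := (IsLocalization.map_eq_zero_iff (Submonoid.powers (f.app U g))
    Γ(X, X.basicOpen (f.app U g)) (f.app U b)).1 hb'
  have hker : g ^ m * b ∈ RingHom.ker (f.app U).hom := by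
    rw [RingHom.mem_ker, map_mul, map_pow]
    exact hm
  have hu : IsUnit (Y.presheaf.germ U y hy g) := (Y.mem_basicOpen g y hy).1 hyg
  have heq : Y.presheaf.germ U y hy (g ^ m * b) =
      (Y.presheaf.germ V y hyV a) * (Y.presheaf.germ U y hy g) ^ (m + n) := by
    have h3 := congrArg (Y.presheaf.germ (Y.basicOpen g) y hyg) hab
    rw [map_mul] at h3
    change _ * Y.presheaf.germ (Y.basicOpen g) y hyg (Y.presheaf.map _ (g ^ n)) =
      Y.presheaf.germ (Y.basicOpen g) y hyg (Y.presheaf.map _ b) at h3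
    erw [TopCat.Presheaf.germ_res_apply, TopCat.Presheaf.germ_res_apply,
      TopCat.Presheaf.germ_res_apply] at h3
    rw [map_mul, map_pow, ← h3, map_pow, pow_add]
    ring
  have : Y.presheaf.germ U y hy (g ^ m * b) ∈ Ideal.span (Set.range fun k : RingHom.ker (f.app U).hom
      => Y.presheaf.germ U y hy k.1) := Ideal.subset_span ⟨⟨_, hker⟩, rfl⟩
  rw [heq] at this
  exact (Ideal.mul_unit_mem_iff_mem _ (hu.pow _)).1 this

theorem isClosedImmersion_toLRSHom' {X Y : Scheme.{u}} (f : X ⟶ Y) [IsClosedImmersion f] :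
    LRSImm.IsClosedImmersion f.toLRSHom := by
  refine isClosedImmersion_toLRSHom f f.isClosedEmbedding
    ((TopCat.Presheaf.locally_surjective_iff_surjective_on_stalks f.c).2 fun x => ?_)
  by_cases hx : x ∈ Set.range f
  · obtain ⟨z, rfl⟩ := hx
    have := TopCat.Presheaf.stalkPushforward.stalkPushforward_iso_of_isInducing CommRingCat
      f.isClosedEmbedding.isInducing X.presheaf z
    intro e
    obtain ⟨b, hb⟩ := f.stalkMap_surjective z (X.presheaf.stalkPushforward CommRingCat f.base z e)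
    exact ⟨b, (ConcreteCategory.bijective_of_isIso
      (X.presheaf.stalkPushforward CommRingCat f.base z)).1 hb⟩
  · intro e
    obtain ⟨V, hxV, a, rfl⟩ := TopCat.Presheaf.exists_germ_eq _ e
    refine ⟨0, ?_⟩
    let W : Y.Opens := V ⊓ ⟨(Set.range f)ᶜ, f.isClosedEmbedding.isClosed_range.isOpen_compl⟩
    have hxW : x ∈ W := ⟨hxV, hx⟩
    have h0 : res X.toLocallyRingedSpace (show pull f.toLRSHom W ≤ pull f.toLRSHom V from
        fun _ hy => hy.1) a = 0 := sec_ext (Y := X.toLocallyRingedSpace) _ _ fun z hz => absurd ⟨z, rfl⟩ hz.2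
    rw [map_zero, ← TopCat.Presheaf.germ_res_apply _ (homOfLE (inf_le_left : W ≤ V)) x hxW a]
    exact ((congrArg _ h0).trans (map_zero _)).symm

/-- Closed immersions with the same kernel are isomorphic. -/
theorem exists_iso_of_kills_iff {Z W X : LocallyRingedSpace.{u}} (i : Z ⟶ X) (j : W ⟶ X)
    (hi : Topology.IsClosedEmbedding i.base) (his : TopCat.Presheaf.IsLocallySurjective i.c)
    (hj : Topology.IsClosedEmbedding j.base) (hjs : TopCat.Presheaf.IsLocallySurjective j.c)
    (hij : ∀ (U : Opens X.toTopCat) s, i.c.app (op U) s = 0 → j.c.app (op U) s = 0)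
    (hji : ∀ (U : Opens X.toTopCat) s, j.c.app (op U) s = 0 → i.c.app (op U) s = 0) :
    ∃ e : Z ≅ W, e.hom ≫ j = i := by
  obtain ⟨g, hg⟩ := exists_fac j hj hjs i hji
  obtain ⟨g', hg'⟩ := exists_fac i hi his j hij
  exact ⟨⟨g, g', fac_unique i hi his _ _ (by rw [Category.assoc, hg', hg, Category.id_comp]),
    fac_unique j hj hjs _ _ (by rw [Category.assoc, hg, hg', Category.id_comp])⟩, hg⟩

end Groth.Agent.SchMor12
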