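import Mathlib.AlgebraicGeometry.Morphisms.QuasiSeparated

/-! Quasi-separatedness criteria. -/

universe u

set_option autoImplicit false
set_option backward.isDefEq.respectTransparency false

open CategoryTheory AlgebraicGeometry TopologicalSpace

namespace Groth.Agent.SchMor12

theorem isQuasiSeparated_of_cover {X : Scheme.{u}} (O : X.Opens) {κ : Type*} (V : κ → X.affineOpens)
    (hV : ⨆ j, (V j : X.Opens) = O) (hVV : ∀ j j', IsCompact ((V j : Set X) ∩ (V j' : Set X))) :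
    IsQuasiSeparated (O : Set X) := by
  refine (isQuasiSeparated_iff_quasiSeparatedSpace _ O.2).2 ?_
  have hle : ∀ j, (V j : X.Opens) ≤ O := fun j => hV ▸ le_iSup (fun j => (V j : X.Opens)) j
  refine Scheme.quasiSeparatedSpace_of_isOpenCover (X := O.toScheme)
    (fun j => O.ι ⁻¹ᵁ (V j : X.Opens)) ?_ (fun j => (V j).2.preimage_of_isOpenImmersion O.ι
      (by rw [Scheme.Opens.opensRange_ι]; exact hle j)) fun j j' => ?_
  · refine top_le_iff.1 fun x _ => ?_
    obtain ⟨j, hj⟩ := Opens.mem_iSup.1 (hV.ge x.2)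
    exact Opens.mem_iSup.2 ⟨j, hj⟩
  · rw [O.ι.isOpenEmbedding.isCompact_iff]
    convert hVV j j' using 1
    ext x
    exact ⟨fun ⟨y, hy, e⟩ => e ▸ hy, fun hx => ⟨⟨x, hle j hx.1⟩, hx, rfl⟩⟩

theorem quasiSeparated_of_cover {X S : Scheme.{u}} (f : X ⟶ S) {ι : Type*} (W : ι → S.affineOpens)
    (hW : ⨆ i, (W i : S.Opens) = ⊤)
    (H : ∀ i, IsQuasiSeparated ((f ⁻¹ᵁ (W i : S.Opens) : X.Opens) : Set X)) : QuasiSeparated f :=
  HasAffineProperty.of_iSup_eq_top (P := @QuasiSeparated) W hW fun i =>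
    (isQuasiSeparated_iff_quasiSeparatedSpace _ (f ⁻¹ᵁ (W i : S.Opens)).2).1 (H i)

end Groth.Agent.SchMor12
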