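import Mathlib.AlgebraicGeometry.AffineScheme
import Mathlib.Topology.Sheaves.SheafCondition.UniqueGluing

/-! Sheaves from standard-open gluing on affine opens. -/

universe u

set_option autoImplicit false
set_option backward.isDefEq.respectTransparency false

open CategoryTheory AlgebraicGeometry Opposite TopologicalSpace

namespace Groth.Agent.SchMor12

variable {X : Scheme.{u}} (F : (X.affineOpens)ᵒᵖ ⥤ Type u)

/-- Restriction. -/
def r {U V : X.affineOpens} (h : V ≤ U) : F.obj (op U) → F.obj (op V) := F.map (homOfLE h).op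

theorem r_r {U V W : X.affineOpens} (h : V ≤ U) (h' : W ≤ V) (a : F.obj (op U)) :
    r F h' (r F h a) = r F (h'.trans h) a := by
  show F.map _ (F.map _ a) = F.map _ a
  rw [← FunctorToTypes.map_comp_apply, ← op_comp, homOfLE_comp]

theorem r_self {U : X.affineOpens} (h : U ≤ U) (a : F.obj (op U)) : r F h a = a :=
  FunctorToTypes.map_id_apply F a

/-- Standard opens. -/
def D (U : X.affineOpens) (f : Γ(X, (U : X.Opens))) : X.affineOpens := ⟨X.basicOpen f, U.2.basicOpen f⟩

theorem D_le (U : X.affineOpens) (f : Γ(X, (U : X.Opens))) : D U f ≤ U := X.basicOpen_le f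

theorem sup_eq_of_add (U : X.affineOpens) {f g : Γ(X, (U : X.Opens))} (h : f + g = 1) :
    (U : X.Opens) = X.basicOpen f ⊔ X.basicOpen g := by
  refine le_antisymm ?_ (sup_le (X.basicOpen_le _) (X.basicOpen_le _))
  have := X.basicOpen_add_le f g
  rwa [h, Scheme.basicOpen_of_isUnit _ isUnit_one] at this

theorem le_res (U V : X.affineOpens) (h : V ≤ U) (f : Γ(X, (U : X.Opens))) :
    X.basicOpen (X.presheaf.map (homOfLE (show (V : X.Opens) ≤ U from h)).op f) = (V : X.Opens) ⊓ X.basicOpen f :=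
  X.basicOpen_res f _

/-- The hypothesis: empty open and two standard opens. -/
structure Glue : Prop where
  empty : ∀ U : X.affineOpens, (U : X.Opens) = ⊥ → Nonempty (F.obj (op U)) ∧ Subsingleton (F.obj (op U))
  inj : ∀ (U : X.affineOpens) (f g : Γ(X, (U : X.Opens))), (U : X.Opens) = X.basicOpen f ⊔ X.basicOpen g →
    ∀ a b, r F (D_le U f) a = r F (D_le U f) b → r F (D_le U g) a = r F (D_le U g) b → a = b
  surj : ∀ (U : X.affineOpens) (f g : Γ(X, (U : X.Opens))), (U : X.Opens) = X.basicOpen f ⊔ X.basicOpen g →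
    ∀ v w, (∀ (Z : X.affineOpens) (h₁ : Z ≤ D U f) (h₂ : Z ≤ D U g), r F h₁ v = r F h₂ w) →
      ∃ a, r F (D_le U f) a = v ∧ r F (D_le U g) a = w

variable {F}

theorem span_res {U V : X.affineOpens} (h : V ≤ U) {ι : Type*} (f : ι → Γ(X, (U : X.Opens)))
    {g : Γ(X, (U : X.Opens))} (hg : g ∈ Ideal.span (Set.range f)) (hV : (V : X.Opens) ≤ X.basicOpen g) :
    Ideal.span (Set.range fun k => X.presheaf.map (homOfLE (show (V : X.Opens) ≤ U from h)).op (f k)) = ⊤ := by
  let φ := (X.presheaf.map (homOfLE (show (V : X.Opens) ≤ U from h)).op).hom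
  have h1 : φ g ∈ (Ideal.span (Set.range f)).map φ := Ideal.mem_map_of_mem φ hg
  rw [Ideal.map_span, ← Set.range_comp] at h1
  refine Ideal.eq_top_of_isUnit_mem _ h1 ?_
  have hu := X.toRingedSpace.isUnit_res_basicOpen g
  have := hu.map (X.presheaf.map (homOfLE hV).op).hom
  refine (congrArg IsUnit ?_).mp this
  exact (ConcreteCategory.congr_hom (X.presheaf.map_comp (homOfLE (X.basicOpen_le g)).op (homOfLE hV).op) g).symm

theorem sep_glue (hF : Glue F) : ∀ (n : ℕ) (U : X.affineOpens) (f : Fin n → Γ(X, (U : X.Opens))),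
    Ideal.span (Set.range f) = ⊤ →
      (∀ a b, (∀ k, r F (D_le U (f k)) a = r F (D_le U (f k)) b) → a = b) ∧
      (∀ x : ∀ k, F.obj (op (D U (f k))),
        (∀ k l (Z : X.affineOpens) (h₁ : Z ≤ D U (f k)) (h₂ : Z ≤ D U (f l)), r F h₁ (x k) = r F h₂ (x l)) →
        ∃ a, ∀ k, r F (D_le U (f k)) a = x k) := by
  intro n
  induction n with
  | zero =>
    intro U f hf
    have hU : (U : X.Opens) = ⊥ := by
      have := (U.2.self_le_iSup_basicOpen_iff (s := Set.range f)).2 hf
      refine le_bot_iff.1 (this.trans ?_)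
      refine iSup_le fun i => ?_
      obtain ⟨k, -⟩ := i.2
      exact k.elim0
    obtain ⟨⟨a⟩, _⟩ := hF.empty U hU
    exact ⟨fun a b _ => Subsingleton.elim a b, fun x _ => ⟨a, fun k => k.elim0⟩⟩
  | succ n ih =>
    intro U f hf
    obtain ⟨c, hc⟩ := Ideal.mem_span_range_iff_exists_fun.1 ((Ideal.eq_top_iff_one _).1 hf)
    let f' : Fin n → Γ(X, (U : X.Opens)) := fun k => f k.castSucc
    let g : Γ(X, (U : X.Opens)) := ∑ k : Fin n, c k.castSucc * f k.castSucc
    let h := f (Fin.last n)
    have hg : g ∈ Ideal.span (Set.range f') :=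
      sum_mem fun k _ => Ideal.mul_mem_left _ _ (Ideal.subset_span ⟨k, rfl⟩)
    have hsum : g + c (Fin.last n) * h = 1 := by rw [← hc, Fin.sum_univ_castSucc]
    have hsup : (U : X.Opens) = X.basicOpen g ⊔ X.basicOpen h := by
      refine le_antisymm ((sup_eq_of_add U hsum).le.trans (sup_le_sup_left ?_ _))
        (sup_le (X.basicOpen_le _) (X.basicOpen_le _))
      rw [X.basicOpen_mul]; exact inf_le_right
    let V := D U g
    let fV : Fin n → Γ(X, (V : X.Opens)) := fun k => X.presheaf.map (homOfLE (show (V : X.Opens) ≤ U from D_le U g)).op (f' k)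
    have hfV : Ideal.span (Set.range fV) = ⊤ := span_res (D_le U g) f' hg le_rfl
    have hle : ∀ k, D V (fV k) ≤ D U (f' k) := fun k => (le_res U V (D_le U g) (f' k)).le.trans inf_le_right
    refine ⟨fun a b hab => ?_, fun x hx => ?_⟩
    · refine hF.inj U g h hsup a b ((ih V fV hfV).1 _ _ fun k => ?_) (hab _)
      have := congrArg (r F (hle k)) (hab k.castSucc)
      rw [r_r, r_r] at this
      rw [r_r, r_r]
      exact this
    obtain ⟨v, hv⟩ := (ih V fV hfV).2 (fun k => r F (hle k) (x k.castSucc)) fun k l Z h₁ h₂ => by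
      rw [r_r, r_r]; exact hx _ _ Z _ _
    have hvw : ∀ (Z : X.affineOpens) (h₁ : Z ≤ D U g) (h₂ : Z ≤ D U h), r F h₁ v = r F h₂ (x (Fin.last n)) :=
      fun Z h₁ h₂ => by
        let fZ : Fin n → Γ(X, (Z : X.Opens)) := fun k =>
          X.presheaf.map (homOfLE (show (Z : X.Opens) ≤ U from h₁.trans (D_le U g))).op (f' k)
        refine (ih Z fZ (span_res (h₁.trans (D_le U g)) f' hg h₁)).1 _ _ fun k => ?_
        have hZk : D Z (fZ k) ≤ D V (fV k) := by
          show X.basicOpen (fZ k) ≤ X.basicOpen (fV k)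
          rw [le_res U Z (h₁.trans (D_le U g)), le_res U V (D_le U g)]
          exact inf_le_inf_right _ h₁
        rw [r_r, r_r]
        have := congrArg (r F hZk) (hv k)
        rw [r_r, r_r] at this
        exact this.trans (hx _ _ _ _ _)
    obtain ⟨a, ha₁, ha₂⟩ := hF.surj U g h hsup v (x (Fin.last n)) hvw
    refine ⟨a, fun k => ?_⟩
    induction k using Fin.lastCases with
    | last => exact ha₂
    | cast k =>
      let W := D U (f' k)
      have hW : W ≤ U := D_le U (f' k)
      let gW := X.presheaf.map (homOfLE (show (W : X.Opens) ≤ U from hW)).op g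
      let hW' := X.presheaf.map (homOfLE (show (W : X.Opens) ≤ U from hW)).op h
      have hWsup : (W : X.Opens) = X.basicOpen gW ⊔ X.basicOpen hW' := by
        rw [le_res U W hW, le_res U W hW, ← inf_sup_left, ← hsup, inf_eq_left.2 hW]
      refine hF.inj W gW hW' hWsup _ _ ?_ ?_
      · have hWV : D W gW ≤ V := (le_res U W hW g).le.trans inf_le_right
        have hWVk : D W gW ≤ D V (fV k) := by
          show X.basicOpen gW ≤ X.basicOpen (fV k)
          rw [le_res U W hW, le_res U V (D_le U g)]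
          exact le_inf inf_le_right inf_le_left
        have e1 := congrArg (r F hWV) ha₁
        have e2 := congrArg (r F hWVk) (hv k)
        rw [r_r] at e1
        rw [r_r, r_r] at e2
        rw [r_r]
        exact e1.trans e2
      · have hWh : D W hW' ≤ D U h := (le_res U W hW h).le.trans inf_le_right
        have e1 := congrArg (r F hWh) ha₂
        rw [r_r] at e1
        rw [r_r]
        exact e1.trans (hx _ _ _ _ _)

/-- Compatible families on affines inside an open. -/
@[ext]
structure Fam (F : (X.affineOpens)ᵒᵖ ⥤ Type u) (O : X.Opens) : Type u where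
  val : ∀ V : X.affineOpens, (V : X.Opens) ≤ O → F.obj (op V)
  nat : ∀ (V W : X.affineOpens) (hV : (V : X.Opens) ≤ O) (hW : (W : X.Opens) ≤ O) (h : W ≤ V),
    r F h (val V hV) = val W hW

/-- The extended presheaf. -/
def ext (F : (X.affineOpens)ᵒᵖ ⥤ Type u) : TopCat.Presheaf (Type u) X.carrier where
  obj O := Fam F O.unop
  map h := ↾ fun s => ⟨fun V hV => s.val V (hV.trans h.unop.le), fun V W hV hW h' => s.nat V W _ _ h'⟩
  map_id _ := by ext s; rfl
  map_comp _ _ := by ext s; rfl

theorem isSheaf_ext (hF : Glue F) : (ext F).IsSheaf := by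
  rw [TopCat.Presheaf.isSheaf_iff_isSheafUniqueGluing]
  intro ι O s hs
  have hs' : ∀ (i j : ι) (V : X.affineOpens) (hi : (V : X.Opens) ≤ O i) (hj : (V : X.Opens) ≤ O j),
      (s i).val V hi = (s j).val V hj := fun i j V hi hj =>
    congrArg (fun t => t.val V (le_inf hi hj)) (hs i j)
  have key : ∀ V : X.affineOpens, (V : X.Opens) ≤ iSup O → ∃ e : F.obj (op V),
      (∀ (i : ι) (W : X.affineOpens) (hWV : W ≤ V) (hWi : (W : X.Opens) ≤ O i), r F hWV e = (s i).val W hWi) ∧
      ∀ e', (∀ (i : ι) (W : X.affineOpens) (hWV : W ≤ V) (hWi : (W : X.Opens) ≤ O i),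
        r F hWV e' = (s i).val W hWi) → e' = e := fun V hV => by
    have hcov : ∀ x : (V : X.Opens), ∃ (f : Γ(X, (V : X.Opens))) (i : ι), X.basicOpen f ≤ O i ∧ x.1 ∈ X.basicOpen f := fun x => by
      obtain ⟨i, hi⟩ := Opens.mem_iSup.1 (hV x.2)
      obtain ⟨f, hf, hxf⟩ := V.2.exists_basicOpen_le (V := O i) ⟨x.1, hi⟩ x.2
      exact ⟨f, i, hf, hxf⟩
    choose f i hfi hxf using hcov
    have hspan : Ideal.span (Set.range f) = ⊤ :=
      (V.2.self_le_iSup_basicOpen_iff).1 fun x hx => Opens.mem_iSup.2 ⟨⟨f ⟨x, hx⟩, _, rfl⟩, hxf ⟨x, hx⟩⟩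
    obtain ⟨S, hS⟩ : ∃ S : Finset (Set.range f), Ideal.span (Set.range fun y : S => (y.1.1)) = ⊤ := by
      classical
      obtain ⟨l, hl⟩ := (Finsupp.mem_span_iff_linearCombination _ _ _).1 ((Ideal.eq_top_iff_one _).1 hspan)
      refine ⟨l.support, (Ideal.eq_top_iff_one _).2 ?_⟩
      rw [← hl, Finsupp.linearCombination_apply, Finsupp.sum]
      exact sum_mem fun y hy => Ideal.mul_mem_left _ _ (Ideal.subset_span ⟨⟨y, hy⟩, rfl⟩)
    let n := Fintype.card S
    let eS := Fintype.equivFin S
    let g : Fin n → Γ(X, (V : X.Opens)) := fun k => (eS.symm k).1.1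
    have hg : Ideal.span (Set.range g) = ⊤ := by
      rw [← hS]; congr 1; exact eS.symm.surjective.range_comp (fun y : S => y.1.1)
    have hgi : ∀ k, ∃ i, X.basicOpen (g k) ≤ O i := fun k => by
      obtain ⟨x, hx⟩ := (eS.symm k).1.2
      exact ⟨i x, by rw [show g k = f x from hx.symm]; exact hfi x⟩
    choose j hj using hgi
    obtain ⟨hsep, hglue⟩ := sep_glue hF n V g hg
    obtain ⟨e, he⟩ := hglue (fun k => (s (j k)).val (D V (g k)) (hj k)) fun k l Z h₁ h₂ => by
      rw [(s (j k)).nat _ Z _ ((show (Z : X.Opens) ≤ _ from h₁).trans (hj k)) h₁,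
        (s (j l)).nat _ Z _ ((show (Z : X.Opens) ≤ _ from h₂).trans (hj l)) h₂]
      exact hs' _ _ _ _ _
    refine ⟨e, fun i W hWV hWi => ?_, fun e' he' => hsep _ _ fun k => ?_⟩
    · let gW : Fin n → Γ(X, (W : X.Opens)) := fun k =>
        X.presheaf.map (homOfLE (show (W : X.Opens) ≤ V from hWV)).op (g k)
      have hone : (1 : Γ(X, (V : X.Opens))) ∈ Ideal.span (Set.range g) := hg ▸ trivial
      refine (sep_glue hF n W gW (span_res hWV g hone (by rw [Scheme.basicOpen_of_isUnit _ isUnit_one]; exact hWV))).1 _ _ fun k => ?_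
      have hWk : D W (gW k) ≤ D V (g k) := (le_res V W hWV (g k)).le.trans inf_le_right
      have e1 := congrArg (r F hWk) (he k)
      rw [r_r] at e1
      rw [r_r, e1, (s i).nat _ _ _ ((show ((D W (gW k) : X.affineOpens) : X.Opens) ≤ W from D_le W _).trans hWi) _,
        (s (j k)).nat _ _ _ ((show ((D W (gW k) : X.affineOpens) : X.Opens) ≤ _ from hWk).trans (hj k)) _]
      exact hs' _ _ _ _ _
    · rw [he', he]
  choose e he huniq using key
  let a : Fam F (iSup O) := ⟨fun V hV => e V hV, fun V W hV hW h => huniq W hW _ fun i Z hZW hZi => by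
    rw [r_r]; exact he V hV i Z _ hZi⟩
  refine ⟨a, fun i => ?_, fun b hb => ?_⟩
  · refine Fam.ext (funext₂ fun V hV => ?_)
    have := he V (hV.trans (le_iSup O i)) i V le_rfl hV
    rwa [r_self] at this
  · refine Fam.ext (funext₂ fun V hV => ?_)
    refine huniq V hV _ fun i W hWV hWi => ?_
    rw [b.nat V W hV ((show (W : X.Opens) ≤ V from hWV).trans hV) hWV, ← hb i]
    rfl

end Groth.Agent.SchMor12
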